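import Groth.Agent.Lib.CentSplit14.Smooth
import Groth.Agent.Lib.HopfAG.TrigDescent
import Groth.Agent.Lib.Hopf.FiniteRank
import Mathlib.RingTheory.Etale.Field
import Mathlib.RingTheory.Unramified.Basic

/-!
# A connected group of multiplicative type lifts uniquely through an étale unipotent kernel
-/

universe u

set_option linter.style.haveILetI false

open TensorProduct WithConv
open GrothLib.HopfNQ14 (pre post)
open scoped GrothLib.Chevalley

namespace GrothLib.EtaleSect14

variable {k : Type u} [Field k] {A B : Type u} [CommRing A] [HopfAlgebra k A] [CommRing B] [HopfAlgebra k B]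

/-- The coefficient counit `R ⊗ B → R`. -/
noncomputable def coefCounit (R : Type u) [CommRing R] [Algebra k R] : R ⊗[k] B →ₐ[k] R :=
  (Algebra.TensorProduct.rid k k R).toAlgHom.comp
    (Algebra.TensorProduct.map (AlgHom.id k R) (Bialgebra.counitAlgHom k B))

theorem coefCounit_tmul {R : Type u} [CommRing R] [Algebra k R] (r : R) (b : B) :
    coefCounit (k := k) R (r ⊗ₜ[k] b) = Coalgebra.counit (R := k) b • r := rfl

theorem eq_const_field (hconn : ∀ e : B, IsIdempotentElem e → e = 0 ∨ e = 1) {D : Type u} [CommRing D]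
    [Algebra k D] [Algebra.Etale k D] (L : Type u) [Field L] [IsAlgClosed L] [Algebra k L]
    (φ : D →ₐ[k] L ⊗[k] B) (d : D) : φ d = coefCounit L (φ d) ⊗ₜ[k] (1 : B) := by
  classical
  let φL : L ⊗[k] D →ₐ[L] L ⊗[k] B := Algebra.TensorProduct.lift (Algebra.ofId L _) φ fun _ _ => .all _ _
  haveI : Algebra.EssFiniteType L (L ⊗[k] D) := inferInstance
  obtain ⟨I, hI, Ai, _, _, e, hsep⟩ :=
    (Algebra.FormallyEtale.iff_exists_algEquiv_prod L (L ⊗[k] D)).1 inferInstance
  haveI : Fintype I := Fintype.ofFinite I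
  haveI : Nontrivial B := (Bialgebra.counitAlgHom k B).toRingHom.domain_nontrivial
  have hidem := GrothLib.CentSplit14.idempotents_baseChange (k := k) hconn L
  have hrange : ∀ z, φL z ∈ (⊥ : Subalgebra L (L ⊗[k] B)) := by
    intro z
    have hlam : ∀ i, ∃ l : L, algebraMap L (Ai i) l = e z i := fun i => by
      haveI := hsep i
      exact (IsAlgClosed.algebraMap_bijective_of_isIntegral (k := L) (K := Ai i)).2 _
    choose l hl using hlam
    have hz : z = ∑ i, l i • e.symm (Pi.single i 1) := by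
      apply e.injective
      simp only [map_sum, map_smul, AlgEquiv.apply_symm_apply]
      funext j
      rw [Finset.sum_apply, Finset.sum_eq_single j (fun b _ hb => by simp [Pi.single_eq_of_ne (Ne.symm hb)])
        (fun h => absurd (Finset.mem_univ j) h)]
      simp [Algebra.smul_def, hl]
    rw [hz, map_sum]
    refine Subalgebra.sum_mem _ fun i _ => ?_
    rw [map_smul]
    refine Subalgebra.smul_mem _ ?_ _
    have hid : IsIdempotentElem (φL (e.symm (Pi.single i 1))) := by
      rw [IsIdempotentElem, ← map_mul, ← map_mul, ← Pi.single_mul, one_mul]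
    rcases hidem _ hid with h | h <;> rw [h]
    · exact zero_mem _
    · exact one_mem _
  obtain ⟨l, hl⟩ := Algebra.mem_bot.1 (hrange ((1 : L) ⊗ₜ[k] d))
  have e1 : φL ((1 : L) ⊗ₜ[k] d) = φ d := by simp [φL, ← Algebra.TensorProduct.one_def]
  rw [e1] at hl
  rw [← hl]
  simp [Algebra.TensorProduct.algebraMap_apply, coefCounit_tmul]

theorem eq_const (hconn : ∀ e : B, IsIdempotentElem e → e = 0 ∨ e = 1) {D : Type u} [CommRing D]
    [Algebra k D] [Algebra.Etale k D] {R : Type u} [CommRing R] [Algebra k R]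
    (φ : D →ₐ[k] R ⊗[k] B) :
    φ = (Algebra.TensorProduct.includeLeft : R →ₐ[k] R ⊗[k] B).comp ((coefCounit R).comp φ) := by
  classical
  obtain ⟨s, hs⟩ := (Algebra.FiniteType.out : (⊤ : Subalgebra k D).FG)
  let φ' : D →ₐ[k] R ⊗[k] B := (Algebra.TensorProduct.includeLeft : R →ₐ[k] R ⊗[k] B).comp ((coefCounit R).comp φ)
  let I : Ideal (R ⊗[k] B) := Ideal.span ((fun d => φ d - φ' d) '' (s : Set D))
  have hnil : ∀ d, IsNilpotent (φ d - φ' d) := fun d => by
    rw [← mem_nilradical, nilradical_eq_sInf, Ideal.mem_sInf]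
    intro p hp
    haveI : p.IsPrime := hp
    let L := AlgebraicClosure (FractionRing ((R ⊗[k] B) ⧸ p))
    let pt : R ⊗[k] B →ₐ[k] L := (IsScalarTower.toAlgHom k ((R ⊗[k] B) ⧸ p) L).comp (Ideal.Quotient.mkₐ k p)
    let ev : R →ₐ[k] L := pt.comp Algebra.TensorProduct.includeLeft
    let ψ₂ : D →ₐ[k] L ⊗[k] B := (Algebra.TensorProduct.map ev (AlgHom.id k B)).comp φ
    let back : L ⊗[k] B →ₐ[k] L :=
      Algebra.TensorProduct.lift (AlgHom.id k L) (pt.comp Algebra.TensorProduct.includeRight) fun _ _ => .all _ _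
    have hback : ∀ z : R ⊗[k] B, back (Algebra.TensorProduct.map ev (AlgHom.id k B) z) = pt z := fun z => by
      induction z using TensorProduct.induction_on with
      | zero => simp
      | tmul r b =>
        simp only [back, ev, Algebra.TensorProduct.map_tmul, Algebra.TensorProduct.lift_tmul, AlgHom.id_apply,
          AlgHom.comp_apply, Algebra.TensorProduct.includeLeft_apply, Algebra.TensorProduct.includeRight_apply]
        rw [← map_mul, Algebra.TensorProduct.tmul_mul_tmul, mul_one, one_mul]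
      | add u v hu hv => simp only [map_add, hu, hv]
    have hcc : ∀ z : R ⊗[k] B, coefCounit L (Algebra.TensorProduct.map ev (AlgHom.id k B) z) = ev (coefCounit R z) :=
      fun z => by
        induction z using TensorProduct.induction_on with
        | zero => simp
        | tmul r b => simp [coefCounit_tmul]
        | add u v hu hv => simp only [map_add, hu, hv]
    have key : pt (φ d) = pt (φ' d) := by
      rw [← hback (φ d)]
      refine (congrArg back (eq_const_field hconn L ψ₂ d)).trans ?_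
      simp only [ψ₂, AlgHom.comp_apply, hcc]
      simp only [back, φ', ev, Algebra.TensorProduct.lift_tmul, AlgHom.comp_apply, AlgHom.id_apply,
        Algebra.TensorProduct.includeLeft_apply, Algebra.TensorProduct.includeRight_apply]
      rw [← map_mul, Algebra.TensorProduct.tmul_mul_tmul, mul_one, mul_one]
    have hinj : Function.Injective (algebraMap ((R ⊗[k] B) ⧸ p) L) := by
      rw [IsScalarTower.algebraMap_eq ((R ⊗[k] B) ⧸ p) (FractionRing ((R ⊗[k] B) ⧸ p)) L]
      exact (algebraMap (FractionRing ((R ⊗[k] B) ⧸ p)) L).injective.comp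
        (IsFractionRing.injective ((R ⊗[k] B) ⧸ p) (FractionRing ((R ⊗[k] B) ⧸ p)))
    refine Ideal.Quotient.eq_zero_iff_mem.1 (hinj ?_)
    rw [map_zero]
    change pt (_ - _) = 0
    rw [map_sub, key, sub_self]
  have hI : IsNilpotent I := by
    have hfg : I.FG := ⟨s.image fun d => φ d - φ' d, by rw [Finset.coe_image]⟩
    refine (hfg.isNilpotent_iff_le_nilradical).2 (Ideal.span_le.2 ?_)
    rintro _ ⟨d, -, rfl⟩
    exact mem_nilradical.2 (hnil d)
  refine Algebra.FormallyUnramified.ext (g₁ := φ) (g₂ := φ') I hI fun x => ?_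
  have : (Ideal.Quotient.mkₐ k I).comp φ = (Ideal.Quotient.mkₐ k I).comp φ' := by
    refine AlgHom.ext_of_adjoin_eq_top hs fun d hd => ?_
    exact Ideal.Quotient.eq.2 (Ideal.subset_span ⟨d, hd, rfl⟩)
  exact DFunLike.congr_fun this x

variable {R : Type u} [CommRing R] [Algebra k R]

theorem kills_of_pre_eq_one {S : Type u} [CommRing S] [Algebra k S] (ψ : B →ₐc[k] A)
    {θ : WithConv (A →ₐ[k] S)} (h : pre ψ θ = 1) :
    GrothLib.Hopf.kerIdeal k ψ ≤ RingHom.ker θ.ofConv := by
  refine Ideal.map_le_iff_le_comap.2 fun x hx => ?_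
  rw [Ideal.mem_comap, RingHom.mem_ker]
  refine (congr($(congrArg WithConv.ofConv h) x)).trans ?_
  change algebraMap k _ (Coalgebra.counit (R := k) x) = 0
  rw [show Coalgebra.counit (R := k) x = 0 from hx, map_zero]

/-- Two points of `E` over `R ⊗ B` lifting the same point of `H` with the same unit value agree. -/
theorem point_unique (hconn : ∀ e : B, IsIdempotentElem e → e = 0 ∨ e = 1) (ψ : B →ₐc[k] A)
    [(GrothLib.Hopf.kerIdeal k ψ).IsHopfIdeal k] [Algebra.Etale k (A ⧸ GrothLib.Hopf.kerIdeal k ψ)]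
    (f g : WithConv (A →ₐ[k] R ⊗[k] B)) (hψ : pre ψ f = pre ψ g)
    (hε : post (coefCounit R) f = post (coefCounit R) g) : f = g := by
  rw [← mul_inv_eq_one]
  set θ := f * g⁻¹
  have h1 : pre ψ θ = 1 := by rw [map_mul, map_inv, hψ, mul_inv_cancel]
  have h2 : post (coefCounit R) θ = 1 := by rw [map_mul, map_inv, hε, mul_inv_cancel]
  have hle := kills_of_pre_eq_one ψ h1
  let φ : A ⧸ GrothLib.Hopf.kerIdeal k ψ →ₐ[k] R ⊗[k] B :=
    Ideal.Quotient.liftₐ _ θ.ofConv fun a ha => hle ha
  refine WithConv.ofConv_injective (AlgHom.ext fun a => ?_)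
  have h3 : θ.ofConv a = φ (Ideal.Quotient.mk _ a) := rfl
  rw [h3, eq_const hconn φ]
  change coefCounit R (θ.ofConv a) ⊗ₜ[k] (1 : B) = algebraMap k (R ⊗[k] B) (Coalgebra.counit (R := k) a)
  rw [show coefCounit R (θ.ofConv a) = algebraMap k R (Coalgebra.counit (R := k) a) from
    congr($(congrArg WithConv.ofConv h2) a), Algebra.TensorProduct.algebraMap_apply]

theorem retraction_unique (hconn : ∀ e : B, IsIdempotentElem e → e = 0 ∨ e = 1) (ψ : B →ₐc[k] A)
    [(GrothLib.Hopf.kerIdeal k ψ).IsHopfIdeal k] [Algebra.Etale k (A ⧸ GrothLib.Hopf.kerIdeal k ψ)]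
    {r r' : A →ₐc[k] B} (hr : r.comp ψ = BialgHom.id k B) (hr' : r'.comp ψ = BialgHom.id k B) : r = r' := by
  have hp : ∀ (x : A →ₐc[k] B), x.comp ψ = BialgHom.id k B →
      pre ψ (toConv ((Algebra.TensorProduct.includeRight : B →ₐ[k] k ⊗[k] B).comp (x : A →ₐ[k] B))) =
        toConv (Algebra.TensorProduct.includeRight : B →ₐ[k] k ⊗[k] B) := fun x hx =>
    WithConv.ofConv_injective (AlgHom.ext fun b => congrArg ((1 : k) ⊗ₜ[k] ·) (DFunLike.congr_fun hx b))
  have he : ∀ (x : A →ₐc[k] B), post (coefCounit k)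
      (toConv ((Algebra.TensorProduct.includeRight : B →ₐ[k] k ⊗[k] B).comp (x : A →ₐ[k] B))) =
        toConv (Bialgebra.counitAlgHom k A) := fun x =>
    WithConv.ofConv_injective (AlgHom.ext fun a => by
      change coefCounit k ((1 : k) ⊗ₜ[k] x a) = Coalgebra.counit (R := k) a
      rw [coefCounit_tmul, smul_eq_mul, mul_one]
      exact CoalgHomClass.counit_comp_apply x a)
  have h := point_unique hconn ψ _ _ ((hp r hr).trans (hp r' hr').symm) ((he r).trans (he r').symm)
  refine DFunLike.ext _ _ fun a => (Algebra.TensorProduct.lid k B).symm.injective ?_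
  exact congr($(congrArg WithConv.ofConv h) a)

theorem existsUnique_retraction [Algebra.FiniteType k A] (hB : SGA3b.IsMultTypeConst k B)
    (hconn : ∀ e : B, IsIdempotentElem e → e = 0 ∨ e = 1) (ψ : B →ₐc[k] A) (hψ : Function.Injective ψ)
    [(GrothLib.Hopf.kerIdeal k ψ).IsHopfIdeal k] [Algebra.Etale k (A ⧸ GrothLib.Hopf.kerIdeal k ψ)]
    (hU : HopfRep.IsUnipotent k (A ⧸ GrothLib.Hopf.kerIdeal k ψ)) :
    ∃! r : A →ₐc[k] B, r.comp ψ = BialgHom.id k B := by
  classical
  let K := AlgebraicClosure k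
  let ψK := GrothLib.TrigDescent.bc ψ K
  have hBK : SGA3b.IsMultTypeConst K (K ⊗[k] B) := GrothLib.CentSplit14.isMultTypeConst_baseChange K hB
  haveI := GrothLib.CentSplit14.isCocomm_of_multTypeConst hBK
  haveI := GrothLib.Hopf.FiniteRank.isHopfIdeal_kerIdeal ψK
  obtain ⟨F, hF⟩ := GrothLib.UnipSplit14.exists_retraction (GrothLib.CentSplit14.isDiag_of_multTypeConst hBK) ψK
    (GrothLib.TrigDescent.bc_injective ψ K hψ) (GrothLib.Hopf.kerIdeal K ψK) rfl
    ((GrothLib.TrigDescent.isUnipotent_kernel_iff ψ K (GrothLib.Hopf.kerIdeal k ψ) rfl).1 hU)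
  have hF' : ∀ b, F ((1 : K) ⊗ₜ[k] ψ b) = (1 : K) ⊗ₜ[k] b := fun b => DFunLike.congr_fun hF ((1 : K) ⊗ₜ[k] b)
  let pt : (K →ₐ[k] K ⊗[k] K) → WithConv (A →ₐ[k] (K ⊗[k] K) ⊗[k] B) := fun σ =>
    toConv ((GrothLib.MultLocal.coefMap B σ).comp
      (((F : K ⊗[k] A →ₐ[K] K ⊗[k] B).restrictScalars k).comp Algebra.TensorProduct.includeRight))
  have hp : ∀ σ, pre ψ (pt σ) = toConv (Algebra.TensorProduct.includeRight : B →ₐ[k] (K ⊗[k] K) ⊗[k] B) := fun σ =>
    WithConv.ofConv_injective (AlgHom.ext fun b => by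
      change GrothLib.MultLocal.coefMap B σ (F ((1 : K) ⊗ₜ[k] ψ b)) = (1 : K ⊗[k] K) ⊗ₜ[k] b
      rw [hF', GrothLib.MultLocal.coefMap_tmul, map_one])
  have he : ∀ σ, post (coefCounit (K ⊗[k] K)) (pt σ) =
      toConv ((Algebra.ofId k (K ⊗[k] K)).comp (Bialgebra.counitAlgHom k A)) := fun σ =>
    WithConv.ofConv_injective (AlgHom.ext fun a => by
      change coefCounit (K ⊗[k] K) (GrothLib.MultLocal.coefMap B σ (F ((1 : K) ⊗ₜ[k] a))) =
        algebraMap k _ (Coalgebra.counit (R := k) a)
      have h1 : ∀ z : K ⊗[k] B, coefCounit (K ⊗[k] K) (GrothLib.MultLocal.coefMap B σ z) =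
          σ (Coalgebra.counit (R := K) z) := fun z => by
        induction z using TensorProduct.induction_on with
        | zero => simp
        | tmul r b => simp [coefCounit_tmul]
        | add u v hu hv => simp only [map_add, hu, hv]
      rw [h1, CoalgHomClass.counit_comp_apply F, TensorProduct.counit_tmul, CommSemiring.counit_apply,
        ← Algebra.algebraMap_eq_smul_one, σ.commutes])
  obtain ⟨r, hr⟩ := GrothLib.MultLocal.exists_bialgHom_descend (E := K) (B := B) (C := A) F fun a =>
    congr($(congrArg WithConv.ofConv (point_unique hconn ψ (pt Algebra.TensorProduct.includeLeft)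
      (pt Algebra.TensorProduct.includeRight) ((hp _).trans (hp _).symm) ((he _).trans (he _).symm))) a)
  have inj : Function.Injective fun x : B => (1 : K) ⊗ₜ[k] x :=
    Module.FaithfullyFlat.tensorProduct_mk_injective (A := k) (B := K) B
  have hr' : r.comp ψ = BialgHom.id k B := DFunLike.ext _ _ fun b => inj ((hr _).trans (hF' b))
  exact ⟨r, hr', fun r' h => retraction_unique hconn ψ h hr'⟩

end GrothLib.EtaleSect14
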